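import Groth.Prelude.Def_WeilRes
import Groth.Agent.H19AbSch.TorusHom
import Groth.Agent.H19Grp.AbSchemeRigid
import Groth.Agent.H20Num.Semistable

/-!
# The multiplicative group has no homomorphisms to a Weil restriction of an abelian scheme
-/

set_option autoImplicit false
set_option linter.style.haveILetI false
set_option linter.unusedSectionVars false
set_option synthInstance.maxHeartbeats 400000
set_option maxHeartbeats 1000000

noncomputable section

universe u

open CategoryTheory CategoryTheory.Limits MonoidalCategory CartesianMonoidalCategory MonObj AlgebraicGeometry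

namespace Groth.Agent.H26WeilGm

theorem connectedSpace_fiber {S : Scheme.{u}} {E : Over S}
    (hEc : ∀ (Ω : Type u) [Field Ω] (t : Spec (CommRingCat.of Ω) ⟶ S), ConnectedSpace ↥(pullback E.hom t)) (s : S) :
    ConnectedSpace ↥(E.hom.fiber s) :=
  hEc _ (S.fromSpecResidueField s)

variable {A B Ω : Scheme.{u}} (f : B ⟶ A) (g : Ω ⟶ A)

/-- The diagonal of a scheme over the fibre product. -/
def graph (W : Over (pullback g f)) :
    (Over.map (pullback.snd g f)).obj W ⟶ Red.bc f ((Over.map g).obj ((Over.map (pullback.fst g f)).obj W)) :=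
  Over.homMk (pullback.lift (𝟙 W.left) (W.hom ≫ pullback.snd g f) (by
    show 𝟙 _ ≫ (W.hom ≫ pullback.fst g f) ≫ g = _
    rw [Category.id_comp, Category.assoc, Category.assoc, pullback.condition])) (pullback.lift_snd _ _ _)

theorem graph_nat {W W' : Over (pullback g f)} (m : W' ⟶ W) :
    (Over.map (pullback.snd g f)).map m ≫ graph f g W =
      graph f g W' ≫ (Over.pullback f).map ((Over.map g).map ((Over.map (pullback.fst g f)).map m)) := by
  refine H21Diag.bc_ext ?_
  simp only [graph, Over.comp_left, Category.assoc]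
  show m.left ≫ pullback.lift _ _ _ ≫ pullback.fst _ f = pullback.lift _ _ _ ≫ pullback.lift _ _ _ ≫ pullback.fst _ f
  rw [pullback.lift_fst, pullback.lift_fst, pullback.lift_fst_assoc, Category.id_comp, Category.comp_id]
  rfl

theorem bcEquiv_nat {S S' : Scheme.{u}} (v : S' ⟶ S) (X : Over S) {W W' : Over S'} (m : W' ⟶ W)
    (a : (Over.map v).obj W ⟶ X) :
    H21Diag.bcEquiv v X W' ((Over.map v).map m ≫ a) = m ≫ H21Diag.bcEquiv v X W a :=
  (Over.mapPullbackAdj v).homEquiv_naturality_left m a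

theorem bcEquiv_symm_nat {S S' : Scheme.{u}} (v : S' ⟶ S) (X : Over S) {W W' : Over S'} (m : W' ⟶ W)
    (a : W ⟶ Red.bc v X) :
    (H21Diag.bcEquiv v X W').symm (m ≫ a) = (Over.map v).map m ≫ (H21Diag.bcEquiv v X W).symm a :=
  (Over.mapPullbackAdj v).homEquiv_naturality_left_symm m a

section family

variable {GB : Over B} [GrpObj GB] {GO : Over Ω} [GrpObj GO] {E : Over B} [GrpObj E] {R : Over A} [GrpObj R]
  (c : Red.bc (pullback.snd g f) GB ⟶ Red.bc (pullback.fst g f) GO) (φ : GO ⟶ Red.bc g R) (q : Red.bc f R ⟶ E)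

/-- The family of maps on points. -/
def fam (Z : Over (pullback g f)) (x : (Over.map (pullback.snd g f)).obj Z ⟶ GB) :
    (Over.map (pullback.snd g f)).obj Z ⟶ E :=
  graph f g Z ≫ WeilRes.restr f q _ ((H21Diag.bcEquiv g R _).symm
    ((H21Diag.bcEquiv (pullback.fst g f) GO Z).symm (H21Diag.bcEquiv (pullback.snd g f) GB Z x ≫ c) ≫ φ))

theorem fam_mul [IsMonHom c] [IsMonHom φ] [IsMonHom q] (Z : Over (pullback g f))
    (x x' : (Over.map (pullback.snd g f)).obj Z ⟶ GB) :
    fam f g c φ q Z (x * x') = fam f g c φ q Z x * fam f g c φ q Z x' := by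
  simp only [fam]
  rw [H21Diag.bcEquiv_mul, MonObj.mul_comp, H21Diag.bcEquiv_symm_mul, MonObj.mul_comp, H21Diag.bcEquiv_symm_mul,
    WeilRes.restr_mul, MonObj.comp_mul]

theorem fam_nat {Z Z' : Over (pullback g f)} (m : Z' ⟶ Z) (x : (Over.map (pullback.snd g f)).obj Z ⟶ GB) :
    fam f g c φ q Z' ((Over.map (pullback.snd g f)).map m ≫ x) =
      (Over.map (pullback.snd g f)).map m ≫ fam f g c φ q Z x := by
  simp only [fam]
  rw [bcEquiv_nat, Category.assoc, bcEquiv_symm_nat (pullback.fst g f) GO m, Category.assoc,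
    bcEquiv_symm_nat g R ((Over.map (pullback.fst g f)).map m), WeilRes.restr_comp,
    ← Category.assoc, ← graph_nat, Category.assoc]

end family

theorem eq_one_of_hom {E : Over B} [GrpObj E] [IsProper E.hom] [Smooth E.hom]
    (hEc : ∀ (K : Type u) [Field K] (t : Spec (CommRingCat.of K) ⟶ B), ConnectedSpace ↥(pullback E.hom t))
    (hT : Red.IsTorus (Red.Gm B))
    {R : Over A} [GrpObj R] {q : Red.bc f R ⟶ E} [IsMonHom q] (hR : WeilRes.IsWeilRes f E R q)
    (φ : Red.Gm Ω ⟶ Red.bc g R) [IsMonHom φ] : φ = 1 := by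
  have hA := connectedSpace_fiber hEc
  haveI := H19AbSch.TorusHom.geometricallyIntegral E hA
  haveI : IsCommMonObj E := H19Grp.isCommMonObj_of_proper
  let p₁ := pullback.fst g f
  let p₂ := pullback.snd g f
  let X₀ : Over B := Over.mk p₂
  let c : Red.bc p₂ (Red.Gm B) ⟶ Red.bc p₁ (Red.Gm Ω) :=
    (H21Diag.bcDSIso p₂ ℤ ≪≫ (H21Diag.bcDSIso p₁ ℤ).symm).hom.hom.hom
  let c' : Red.bc p₁ (Red.Gm Ω) ⟶ Red.bc p₂ (Red.Gm B) :=
    (H21Diag.bcDSIso p₂ ℤ ≪≫ (H21Diag.bcDSIso p₁ ℤ).symm).inv.hom.hom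
  have hc : c' ≫ c = 𝟙 _ :=
    congrArg (fun z => z.hom.hom) (H21Diag.bcDSIso p₂ ℤ ≪≫ (H21Diag.bcDSIso p₁ ℤ).symm).inv_hom_id
  haveI : IsMonHom c := inferInstanceAs (IsMonHom (H21Diag.bcDSIso p₂ ℤ ≪≫ (H21Diag.bcDSIso p₁ ℤ).symm).hom.hom.hom)
  -- a scheme over the product, seen over its components
  let V : Over X₀ → Over (pullback g f) := fun W => Over.mk W.hom.left
  let up : ∀ W : Over X₀, W.left ⟶ (Over.map p₂).obj (V W) := fun W =>
    Over.homMk (𝟙 _) (by
      show 𝟙 W.left.left ≫ W.hom.left ≫ p₂ = W.left.hom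
      rw [Category.id_comp]; exact Over.w W.hom)
  let dn : ∀ W : Over X₀, (Over.map p₂).obj (V W) ⟶ W.left := fun W =>
    Over.homMk (𝟙 _) (by
      show 𝟙 W.left.left ≫ W.left.hom = W.hom.left ≫ p₂
      rw [Category.id_comp]; exact (Over.w W.hom).symm)
  have hud : ∀ W, up W ≫ dn W = 𝟙 _ := fun W => Over.OverMorphism.ext (Category.id_comp _)
  -- the points
  let P : ∀ Z : Over (pullback g f), ((Over.map p₂).obj Z ⟶ Red.Gm B) → ((Over.map p₂).obj Z ⟶ E) :=
    fun Z x => fam f g c φ q Z x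
  have Pmul : ∀ Z x x', P Z (x * x') = P Z x * P Z x' := fun Z x x' => fam_mul f g c φ q Z x x'
  have Pnat : ∀ {Z Z' : Over (pullback g f)} (m : Z' ⟶ Z) (x), P Z' ((Over.map p₂).map m ≫ x) =
      (Over.map p₂).map m ≫ P Z x := fun {Z Z'} m x => fam_nat f g c φ q m x
  let F : ∀ W : Over X₀, (W.left ⟶ Red.Gm B) → (W.left ⟶ E) := fun W x => up W ≫ P (V W) (dn W ≫ x)
  have key := H19AbSch.TorusHom.natural_eq_one hT hA X₀ F
    (fun W x x' => by simp only [F]; rw [MonObj.comp_mul, Pmul, MonObj.comp_mul])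
    (fun {W W'} m x => by
      let m' : V W' ⟶ V W := Over.homMk m.left.left (congrArg CommaMorphism.left (Over.w m))
      have h1 : dn W' ≫ m.left = (Over.map p₂).map m' ≫ dn W :=
        Over.OverMorphism.ext ((Category.id_comp _).trans (Category.comp_id _).symm)
      have h2 : up W' ≫ (Over.map p₂).map m' = m.left ≫ up W :=
        Over.OverMorphism.ext ((Category.id_comp _).trans (Category.comp_id _).symm)
      simp only [F]
      rw [← Category.assoc (dn W'), h1, Category.assoc, Pnat, ← Category.assoc (up W'), h2, Category.assoc])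
  have hP : ∀ Z x, P Z x = 1 := fun Z x => by
    let W : Over X₀ := Over.mk (Over.homMk Z.hom rfl : (Over.map p₂).obj Z ⟶ X₀)
    have h := key W x
    have e1 : up W = 𝟙 _ := Over.OverMorphism.ext rfl
    have e2 : dn W = 𝟙 _ := Over.OverMorphism.ext rfl
    simp only [F] at h
    rw [e1, e2] at h
    exact ((congrArg (P Z) (Category.id_comp x).symm).trans (Category.id_comp _).symm).trans h
  -- the universal point
  let T : Over A := (Over.map g).obj (Red.Gm Ω)
  let Z : Over (pullback g f) := Over.mk (pullback.lift (pullback.fst T.hom f ≫ (Red.Gm Ω).hom) (pullback.snd T.hom f)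
    (by rw [Category.assoc]; exact pullback.condition))
  let a : (Over.map p₁).obj Z ⟶ Red.Gm Ω := Over.homMk (pullback.fst T.hom f) (pullback.lift_fst _ _ _).symm
  have h := hP Z ((H21Diag.bcEquiv p₂ (Red.Gm B) Z).symm (H21Diag.bcEquiv p₁ (Red.Gm Ω) Z a ≫ c'))
  simp only [P, fam] at h
  rw [Equiv.apply_symm_apply, Category.assoc, hc, Category.comp_id, Equiv.symm_apply_apply, bcEquiv_symm_nat,
    WeilRes.restr_comp, ← Category.assoc] at h
  let σ : Red.bc f T ⟶ (Over.map p₂).obj Z := Over.homMk (𝟙 _) (by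
    show 𝟙 _ ≫ Z.hom ≫ p₂ = pullback.snd T.hom f
    rw [Category.id_comp]; exact pullback.lift_snd _ _ _)
  have hσg : σ ≫ graph f g Z ≫ (Over.pullback f).map ((Over.map g).map a) = 𝟙 _ := by
    refine H21Diag.bc_ext ?_
    simp only [graph, Over.comp_left, Category.assoc]
    show 𝟙 _ ≫ pullback.lift _ _ _ ≫ pullback.lift _ _ _ ≫ pullback.fst _ f = 𝟙 _ ≫ pullback.fst _ f
    rw [pullback.lift_fst, pullback.lift_fst_assoc, Category.id_comp, Category.id_comp]
    exact Category.id_comp _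
  have h' := congrArg (σ ≫ ·) h
  simp only [← Category.assoc] at h'
  rw [Category.assoc σ, hσg, Category.id_comp, MonObj.comp_one, ← WeilRes.restr_one f q T] at h'
  have h'' := congrArg (H21Diag.bcEquiv g R _) ((hR T).1 h')
  rw [Equiv.apply_symm_apply] at h''
  rw [h'']
  exact (H21Diag.bcEquiv g R _).symm.injective (by
    rw [Equiv.symm_apply_apply]
    have := H21Diag.bcEquiv_symm_mul g R _ (1 : Red.Gm Ω ⟶ Red.bc g R) 1
    rw [_root_.one_mul] at this
    exact (left_eq_mul.1 this).symm)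

end Groth.Agent.H26WeilGm
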